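import Mathlib.CategoryTheory.Sites.Descent.DescentDataPrime

/-!
# Descent data for a single morphism: the obstruction to the cocycle identity
-/

set_option autoImplicit false
set_option linter.unusedSectionVars false
set_option backward.isDefEq.respectTransparency false

universe v' u' v u t

open CategoryTheory Limits Opposite
open CategoryTheory.Pseudofunctor CategoryTheory.Pseudofunctor.LocallyDiscreteOpToCat

noncomputable section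

namespace Groth.Agent.OrbPic14

variable {C : Type u} [Category.{v} C] {F : Pseudofunctor (LocallyDiscrete Cᵒᵖ) Cat.{v', u'}}

section pull

variable {X₁ X₂ X₃ W W' : C} {M₁ : F.obj (.mk (op X₁))} {M₂ : F.obj (.mk (op X₂))} {M₃ : F.obj (.mk (op X₃))}

/-- Pullback of comparison maps respects composition. -/
theorem pullHom_comp {f₁ : W ⟶ X₁} {f₂ : W ⟶ X₂} {f₃ : W ⟶ X₃}
    (φ : (F.map f₁.op.toLoc).toFunctor.obj M₁ ⟶ (F.map f₂.op.toLoc).toFunctor.obj M₂)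
    (ψ : (F.map f₂.op.toLoc).toFunctor.obj M₂ ⟶ (F.map f₃.op.toLoc).toFunctor.obj M₃)
    (g : W' ⟶ W) (g₁ : W' ⟶ X₁) (g₂ : W' ⟶ X₂) (g₃ : W' ⟶ X₃) (h₁ : g ≫ f₁ = g₁) (h₂ : g ≫ f₂ = g₂)
    (h₃ : g ≫ f₃ = g₃) :
    pullHom φ g g₁ g₂ h₁ h₂ ≫ pullHom ψ g g₂ g₃ h₂ h₃ = pullHom (φ ≫ ψ) g g₁ g₃ h₁ h₃ := by
  simp [pullHom, ← reassoc_of% Cat.Hom₂.comp_app]

/-- Pullback of the identity. -/
theorem pullHom_one {f₁ : W ⟶ X₁} (g : W' ⟶ W) (g₁ : W' ⟶ X₁) (h₁ : g ≫ f₁ = g₁) :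
    pullHom (F := F) (M₁ := M₁) (M₂ := M₁) (f₁ := f₁) (f₂ := f₁) (𝟙 _) g g₁ g₁ h₁ h₁ = 𝟙 _ := by
  simp [pullHom, ← Cat.Hom₂.comp_app]

/-- Pullback of an isomorphism is an isomorphism. -/
theorem isIso_pullHom {f₁ : W ⟶ X₁} {f₂ : W ⟶ X₂}
    (φ : (F.map f₁.op.toLoc).toFunctor.obj M₁ ⟶ (F.map f₂.op.toLoc).toFunctor.obj M₂) [IsIso φ]
    (g : W' ⟶ W) (g₁ : W' ⟶ X₁) (g₂ : W' ⟶ X₂) (h₁ : g ≫ f₁ = g₁) (h₂ : g ≫ f₂ = g₂) :
    IsIso (pullHom φ g g₁ g₂ h₁ h₂) :=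
  ⟨pullHom (inv φ) g g₂ g₁ h₂ h₁, by rw [pullHom_comp, IsIso.hom_inv_id, pullHom_one],
    by rw [pullHom_comp, IsIso.inv_hom_id, pullHom_one]⟩

end pull

variable {ι : Type t} [Unique ι] {S X : C} {f : X ⟶ S} (sq : ι → ι → ChosenPullback f f)
  {M : F.obj (.mk (op X))}
  (θ : ∀ i j : ι, (F.map (sq i j).p₁.op.toLoc).toFunctor.obj M ⟶ (F.map (sq i j).p₂.op.toLoc).toFunctor.obj M)

/-- The comparison between two points. -/
def cmp2 {Z : C} (q : Z ⟶ S) (s t : Z ⟶ X) (hs : s ≫ f = q) (ht : t ≫ f = q) :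
    (F.map s.op.toLoc).toFunctor.obj M ⟶ (F.map t.op.toLoc).toFunctor.obj M :=
  DescentData'.pullHom' (F := F) (sq := sq) (obj := fun _ => M) (obj' := fun _ => M) θ q
    (i₁ := default) (i₂ := default) s t hs ht

theorem cmp2_eq {Z : C} (q : Z ⟶ S) (s t : Z ⟶ X) (hs : s ≫ f = q) (ht : t ≫ f = q)
    (r : Z ⟶ (sq default default).pullback) (h₁ : r ≫ (sq default default).p₁ = s)
    (h₂ : r ≫ (sq default default).p₂ = t) :
    cmp2 sq θ q s t hs ht = pullHom (θ default default) r s t h₁ h₂ :=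
  DescentData'.pullHom'_eq_pullHom (F := F) (sq := sq) (obj := fun _ => M) (obj' := fun _ => M)
    θ q s t r hs ht h₁ h₂

theorem isIso_cmp2 [IsIso (θ default default)] {Z : C} (q : Z ⟶ S) (s t : Z ⟶ X) (hs : s ≫ f = q)
    (ht : t ≫ f = q) : IsIso (cmp2 sq θ q s t hs ht) := by
  rw [cmp2_eq sq θ q s t hs ht ((sq default default).isPullback.lift s t (hs.trans ht.symm))
    (IsPullback.lift_fst _ _ _ _) (IsPullback.lift_snd _ _ _ _)]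
  exact isIso_pullHom _ _ _ _ _ _

theorem pullHom_cmp2 {Z Z' : C} (g : Z' ⟶ Z) (q : Z ⟶ S) (q' : Z' ⟶ S) (s t : Z ⟶ X) (s' t' : Z' ⟶ X)
    (hq : g ≫ q = q') (hs : s ≫ f = q) (ht : t ≫ f = q) (h₁ : g ≫ s = s') (h₂ : g ≫ t = t')
    (hs' : s' ≫ f = q') (ht' : t' ≫ f = q') :
    pullHom (cmp2 sq θ q s t hs ht) g s' t' h₁ h₂ = cmp2 sq θ q' s' t' hs' ht' :=
  DescentData'.pullHom_pullHom' (F := F) (sq := sq) (obj := fun _ => M) (obj' := fun _ => M)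
    θ g q q' s t s' t' hq hs ht h₁ h₂

/-- The normalisation along the diagonal. -/
def Norm : Prop :=
  cmp2 sq θ f (𝟙 X) (𝟙 X) (Category.id_comp _) (Category.id_comp _) = 𝟙 _

theorem cmp2_self (h : Norm sq θ) {Z : C} (q : Z ⟶ S) (s : Z ⟶ X) (hs : s ≫ f = q) :
    cmp2 sq θ q s s hs hs = 𝟙 _ := by
  rw [← pullHom_cmp2 sq θ s f q (𝟙 X) (𝟙 X) s s hs (Category.id_comp _) (Category.id_comp _) (Category.comp_id _)
    (Category.comp_id _) hs hs, h]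
  exact pullHom_one _ _ _

/-- The obstruction to the cocycle identity at a triple of points. -/
theorem exists_obstruction [IsIso (θ default default)] (hn : Norm sq θ) {T : C} (q : T ⟶ S) (ta tb tc : T ⟶ X)
    (ha : ta ≫ f = q) (hb : tb ≫ f = q) (hc : tc ≫ f = q) :
    ∃ e : (F.map ta.op.toLoc).toFunctor.obj M ⟶ (F.map ta.op.toLoc).toFunctor.obj M, IsIso e ∧
      (∀ {Z : C} (s : Z ⟶ T), (s ≫ ta = s ≫ tb ∨ s ≫ tb = s ≫ tc) → pullHom e s (s ≫ ta) (s ≫ ta) = 𝟙 _) ∧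
      (e = 𝟙 _ → cmp2 sq θ q ta tb ha hb ≫ cmp2 sq θ q tb tc hb hc = cmp2 sq θ q ta tc ha hc) := by
  haveI := isIso_cmp2 sq θ q ta tb ha hb
  haveI := isIso_cmp2 sq θ q tb tc hb hc
  haveI := isIso_cmp2 sq θ q ta tc ha hc
  have hE : cmp2 sq θ q ta tb ha hb ≫ cmp2 sq θ q tb tc hb hc =
      ((cmp2 sq θ q ta tb ha hb ≫ cmp2 sq θ q tb tc hb hc) ≫ inv (cmp2 sq θ q ta tc ha hc)) ≫
        cmp2 sq θ q ta tc ha hc := by simp
  refine ⟨(cmp2 sq θ q ta tb ha hb ≫ cmp2 sq θ q tb tc hb hc) ≫ inv (cmp2 sq θ q ta tc ha hc), inferInstance,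
    fun {Z} s hor => ?_, fun h1 => ?_⟩
  · have hza : (s ≫ ta) ≫ f = s ≫ q := by rw [Category.assoc, ha]
    have hzb : (s ≫ tb) ≫ f = s ≫ q := by rw [Category.assoc, hb]
    have hzc : (s ≫ tc) ≫ f = s ≫ q := by rw [Category.assoc, hc]
    have h := congrArg (fun φ => pullHom (F := F) (M₁ := M) (M₂ := M) (f₁ := ta) (f₂ := tc) φ s
      (s ≫ ta) (s ≫ tc) rfl rfl) hE
    rw [← pullHom_comp (f₂ := tb) _ _ s (s ≫ ta) (s ≫ tb) (s ≫ tc) rfl rfl rfl,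
      ← pullHom_comp (f₂ := ta) _ _ s (s ≫ ta) (s ≫ ta) (s ≫ tc) rfl rfl rfl,
      pullHom_cmp2 sq θ s q (s ≫ q) ta tb _ _ rfl ha hb rfl rfl hza hzb,
      pullHom_cmp2 sq θ s q (s ≫ q) tb tc _ _ rfl hb hc rfl rfl hzb hzc,
      pullHom_cmp2 sq θ s q (s ≫ q) ta tc _ _ rfl ha hc rfl rfl hza hzc] at h
    haveI := isIso_cmp2 sq θ (s ≫ q) (s ≫ ta) (s ≫ tc) hza hzc
    refine (cancel_mono (cmp2 sq θ (s ≫ q) (s ≫ ta) (s ≫ tc) hza hzc)).1 ?_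
    refine h.symm.trans (Eq.trans ?_ (Category.id_comp _).symm)
    have hid : ∀ (za zb zc : Z ⟶ X) (h1 : za ≫ f = s ≫ q) (h2 : zb ≫ f = s ≫ q) (h3 : zc ≫ f = s ≫ q),
        (za = zb ∨ zb = zc) → cmp2 sq θ (s ≫ q) za zb h1 h2 ≫ cmp2 sq θ (s ≫ q) zb zc h2 h3 =
          cmp2 sq θ (s ≫ q) za zc h1 h3 := by
      rintro za zb zc h1 h2 h3 (rfl | rfl)
      · rw [cmp2_self sq θ hn (s ≫ q) za h1, Category.id_comp]
      · rw [cmp2_self sq θ hn (s ≫ q) zb h2, Category.comp_id]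
    exact hid _ _ _ hza hzb hzc hor
  · rw [hE, h1, Category.id_comp]

/-- A universal cocycle identity gives all cocycle identities. -/
theorem cmp2_comp_of_universal {T Z : C} (Φ : Z ⟶ T) (q : T ⟶ S) (ta tb tc : T ⟶ X) (q' : Z ⟶ S)
    (za zb zc : Z ⟶ X) (ha : ta ≫ f = q) (hb : tb ≫ f = q) (hc : tc ≫ f = q) (hza : za ≫ f = q')
    (hzb : zb ≫ f = q') (hzc : zc ≫ f = q') (eq' : Φ ≫ q = q') (ea : Φ ≫ ta = za) (eb : Φ ≫ tb = zb)
    (ec : Φ ≫ tc = zc)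
    (h : cmp2 sq θ q ta tb ha hb ≫ cmp2 sq θ q tb tc hb hc = cmp2 sq θ q ta tc ha hc) :
    cmp2 sq θ q' za zb hza hzb ≫ cmp2 sq θ q' zb zc hzb hzc = cmp2 sq θ q' za zc hza hzc := by
  have h' := congrArg (fun φ => pullHom (F := F) (M₁ := M) (M₂ := M) (f₁ := ta) (f₂ := tc) φ Φ za zc ea ec) h
  rwa [← pullHom_comp (f₂ := tb) _ _ Φ za zb zc ea eb ec,
    pullHom_cmp2 sq θ Φ q q' ta tb za zb eq' ha hb ea eb hza hzb,
    pullHom_cmp2 sq θ Φ q q' tb tc zb zc eq' hb hc eb ec hzb hzc,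
    pullHom_cmp2 sq θ Φ q q' ta tc za zc eq' ha hc ea ec hza hzc] at h'

/-- The descent datum of a normalised comparison satisfying the cocycle identity. -/
def datum (sq₃ : ∀ i j l, ChosenPullback₃ (sq i j) (sq j l) (sq i l)) (hn : Norm sq θ)
    (hco : ∀ {Z : C} (q : Z ⟶ S) (za zb zc : Z ⟶ X) (h1 : za ≫ f = q) (h2 : zb ≫ f = q) (h3 : zc ≫ f = q),
      cmp2 sq θ q za zb h1 h2 ≫ cmp2 sq θ q zb zc h2 h3 = cmp2 sq θ q za zc h1 h3) :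
    F.DescentData' sq sq₃ where
  obj _ := M
  hom := θ
  pullHom'_hom_self i := by obtain rfl := Unique.eq_default i; exact hn
  pullHom'_hom_comp i j l := by
    obtain rfl := Unique.eq_default i
    obtain rfl := Unique.eq_default j
    obtain rfl := Unique.eq_default l
    exact hco _ _ _ _ _ _ _

end Groth.Agent.OrbPic14
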