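import Groth.Agent.Lib.OrbPic14.Mod
import Groth.Agent.Lib.UnitsRos.Scheme
import Groth.Agent.Lib.UnitsRos.Char
import Groth.Agent.Lib.RatGrp14.Scheme

/-!
# Descent of invariant invertible modules along principal bundles under connected linear groups

An isomorphism between the two pullbacks of an invertible module to `G ⊗ X`, normalised along the
diagonal, is a descent datum: the failure of the cocycle identity is a unit on `G ⊗ (G ⊗ X)` which is
trivial when either group coordinate is the identity, hence trivial by Rosenlicht.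
-/

set_option autoImplicit false
set_option linter.style.haveILetI false
set_option linter.unusedSectionVars false
set_option backward.isDefEq.respectTransparency false
set_option backward.isDefEq.respectTransparency.types false

universe u

open CategoryTheory MonoidalCategory CartesianMonoidalCategory MonObj AlgebraicGeometry Limits Opposite
open CategoryTheory.Pseudofunctor CategoryTheory.Pseudofunctor.LocallyDiscreteOpToCat
open Groth.Agent.ThetaGrp19

noncomputable section

namespace Groth.Agent.OrbPic14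

variable {k : Type u} [Field k] [IsAlgClosed k] {G X Y : Over (Spec (CommRingCat.of k))}
  [GrpObj G] [IsAffine G.left] [Smooth G.hom] [ConnectedSpace ↥G.left]
  [IsIntegral X.left] [LocallyOfFiniteType X.hom] [QuasiCompact X.hom] [IsSeparated Y.hom]

variable (a : AlgGrp.Action G X) (f : X ⟶ Y) [Flat f.left] [Surjective f.left]
  (hsq : IsPullback a.act.left (snd G X).left f.left f.left)

include hsq in
omit [Flat f.left] [Surjective f.left] in
theorem act_comp : a.act ≫ f = snd G X ≫ f := Over.OverMorphism.ext hsq.w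

/-- Units on the triple product which are trivial when either group coordinate is the identity are trivial. -/
theorem unit_eq_one (x : 𝟙_ (Over (Spec (CommRingCat.of k))) ⟶ X) {u : Γ((G ⊗ (G ⊗ X)).left, ⊤)} (hu : IsUnit u)
    (h₁ : (lift (toUnit (G ⊗ X) ≫ η[G]) (𝟙 (G ⊗ X))).left.appTop u = 1)
    (h₂ : (lift (fst G X) (lift (toUnit (G ⊗ X) ≫ η[G]) (snd G X))).left.appTop u = 1) : u = 1 := by
  haveI := RatGrp14.isIntegral_left G
  haveI : GeometricallyIntegral G.hom := CubeField.geometricallyIntegral_of_isIntegral G.hom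
  haveI : GeometricallyIntegral X.hom := CubeField.geometricallyIntegral_of_isIntegral X.hom
  haveI := AbRigid.geometricallyIntegral_tensorObj G X
  haveI : IsIntegral (G ⊗ X).left := GeometricallyIntegral.isIntegral_of_subsingleton (G ⊗ X).hom
  haveI : LocallyOfFiniteType (G ⊗ X).hom := inferInstanceAs (LocallyOfFiniteType (pullback.fst G.hom X.hom ≫ G.hom))
  obtain ⟨g, h, hg, hh, rfl⟩ := UnitsRos.exists_units_mul (X := G) (Y := G ⊗ X) hu
  rw [map_mul, ← UnitsRos.appTop_comp, ← UnitsRos.appTop_comp, lift_fst, lift_snd] at h₁ h₂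
  rw [UnitsRos.appTop_id, UnitsRos.appTop_comp] at h₁
  obtain ⟨c, hc⟩ := (hg.map η[G].left.appTop.hom).exists_left_inv
  have hh' : h = (toUnit (G ⊗ X)).left.appTop c := by
    calc h = (toUnit (G ⊗ X)).left.appTop (c * η[G].left.appTop g) * h := by
          erw [hc, map_one, _root_.one_mul]
      _ = (toUnit (G ⊗ X)).left.appTop c := by erw [map_mul, _root_.mul_assoc, h₁, _root_.mul_one]
  subst hh'
  rw [← UnitsRos.appTop_comp, comp_toUnit] at h₂
  have key : g * (toUnit G).left.appTop c = 1 := by
    have h3 := congrArg (lift (𝟙 G) (toUnit G ≫ x)).left.appTop h₂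
    rw [map_mul, map_one, ← UnitsRos.appTop_comp, ← UnitsRos.appTop_comp, lift_fst, comp_toUnit,
      UnitsRos.appTop_id] at h3
    exact h3
  have h4 := congrArg (fst G (G ⊗ X)).left.appTop key
  rw [map_mul, map_one, ← UnitsRos.appTop_comp, comp_toUnit] at h4
  rw [← UnitsRos.appTop_comp, comp_toUnit]
  exact h4

include hsq in
/-- Descent of invertible modules which are invariant under the group. -/
theorem exists_descent (x : 𝟙_ (Over (Spec (CommRingCat.of k))) ⟶ X) {L : X.left.Modules}
    (hL : PicF.IsInvertible L)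
    (θ₀ : (Scheme.Modules.pullback a.act.left).obj L ≅ (Scheme.Modules.pullback (snd G X).left).obj L) :
    ∃ M : Y.left.Modules, PicF.IsInvertible M ∧ Nonempty ((Scheme.Modules.pullback f.left).obj M ≅ L) := by
  haveI : QuasiCompact f.left := by
    have : QuasiCompact (f.left ≫ Y.hom) := by rw [Over.w f]; infer_instance
    exact QuasiCompact.of_comp f.left Y.hom
  refine exists_descent_of_units hsq ((snd G (G ⊗ X) ≫ snd G X).left ≫ f.left)
    ((G ◁ a.act) ≫ a.act).left (snd G (G ⊗ X) ≫ a.act).left (snd G (G ⊗ X) ≫ snd G X).left ?_ ?_ rfl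
    (fun {Z} q' za zb zc hza hzb hzc => ?_) (fun v hv hres => ?_) hL θ₀
  · rw [← Over.comp_left, ← Over.comp_left]
    simp only [Category.assoc, act_comp a f hsq, whiskerLeft_snd_assoc]
  · rw [← Over.comp_left, ← Over.comp_left]
    simp only [Category.assoc, act_comp a f hsq]
  · let W₀ : Over (Spec (CommRingCat.of k)) := Over.mk (zc ≫ X.hom)
    have hbc' : zb ≫ X.hom = zc ≫ X.hom := by
      rw [← Over.w f, ← Category.assoc, ← Category.assoc, hzb, hzc]
    let r : W₀ ⟶ G ⊗ X := Over.homMk (hsq.lift zb zc (hzb.trans hzc.symm)) (by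
      show hsq.lift zb zc _ ≫ (G ⊗ X).hom = zc ≫ X.hom
      rw [← Over.w (snd G X), ← Category.assoc, hsq.lift_snd])
    let r' : W₀ ⟶ G ⊗ X := Over.homMk (hsq.lift za zb (hza.trans hzb.symm)) (by
      show hsq.lift za zb _ ≫ (G ⊗ X).hom = zc ≫ X.hom
      rw [← Over.w (snd G X), ← Category.assoc, hsq.lift_snd, hbc'])
    have hra : r ≫ a.act = r' ≫ snd G X := Over.OverMorphism.ext (by
      show hsq.lift zb zc _ ≫ a.act.left = hsq.lift za zb _ ≫ (snd G X).left
      rw [hsq.lift_fst, hsq.lift_snd])
    refine ⟨(lift (r' ≫ fst G X) r : W₀ ⟶ G ⊗ (G ⊗ X)).left, ?_, ?_, ?_⟩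
    · show (lift (r' ≫ fst G X) r ≫ (G ◁ a.act) ≫ a.act).left = za
      rw [lift_whiskerLeft_assoc, hra, show lift (r' ≫ fst G X) (r' ≫ snd G X) = r' from by
        apply CartesianMonoidalCategory.hom_ext <;> simp]
      exact hsq.lift_fst _ _ _
    · show (lift (r' ≫ fst G X) r ≫ snd G (G ⊗ X) ≫ a.act).left = zb
      rw [lift_snd_assoc]
      exact hsq.lift_fst _ _ _
    · show (lift (r' ≫ fst G X) r ≫ snd G (G ⊗ X) ≫ snd G X).left = zc
      rw [lift_snd_assoc]
      exact hsq.lift_snd _ _ _
  · refine unit_eq_one x hv (hres (lift (toUnit (G ⊗ X) ≫ η[G]) (𝟙 (G ⊗ X))).left (Or.inl ?_))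
      (hres (lift (fst G X) (lift (toUnit (G ⊗ X) ≫ η[G]) (snd G X))).left (Or.inr ?_))
    · rw [← Over.comp_left, ← Over.comp_left]
      congr 1
      rw [lift_whiskerLeft_assoc, Category.id_comp, lift_snd_assoc, Category.id_comp]
      rw [show lift (toUnit (G ⊗ X) ≫ η[G]) a.act = a.act ≫ (λ_ X).inv ≫ (η[G] ▷ X) by
        apply CartesianMonoidalCategory.hom_ext <;> simp, Category.assoc, Category.assoc, a.one_act,
        Iso.inv_hom_id, Category.comp_id]
    · rw [← Over.comp_left, ← Over.comp_left]
      congr 1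
      rw [lift_snd_assoc, lift_snd_assoc, lift_snd]
      rw [show lift (toUnit (G ⊗ X) ≫ η[G]) (snd G X) = snd G X ≫ (λ_ X).inv ≫ (η[G] ▷ X) by
        apply CartesianMonoidalCategory.hom_ext <;> simp, Category.assoc, Category.assoc, a.one_act,
        Iso.inv_hom_id, Category.comp_id]

end Groth.Agent.OrbPic14
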