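import Groth.Agent.Lib.QcohDesc12.Effective
import Groth.Agent.Lib.ThetaGrp19.Scalar
import Groth.Agent.Lib.ParaFDesc27.Descent
import Groth.Agent.Lib.OrbPic14.Abstract
import Mathlib.CategoryTheory.Sites.Descent.DescentDataPrime
import Mathlib.AlgebraicGeometry.Sites.Fpqc

/-!
# Descent of invertible modules from a normalised isomorphism
-/

set_option autoImplicit false
set_option linter.style.haveILetI false
set_option linter.unusedSectionVars false
set_option backward.isDefEq.respectTransparency false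
set_option backward.isDefEq.respectTransparency.types false

universe u

open CategoryTheory MonoidalCategory CartesianMonoidalCategory MonObj AlgebraicGeometry Limits Opposite
open CategoryTheory.Pseudofunctor CategoryTheory.Pseudofunctor.LocallyDiscreteOpToCat
open Groth.Agent.ThetaGrp19

noncomputable section

namespace Groth.Agent.OrbPic14

section scalar

variable {X₁ W : Scheme.{u}}

/-- Multiplication by a function on a pullback, typed through the pseudofunctor. -/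
@[irreducible] def sc (f : W ⟶ X₁) (M : X₁.Modules) (c : Γ(W, ⊤)) :
    (Desc.modPF.map f.op.toLoc).toFunctor.obj M ⟶ (Desc.modPF.map f.op.toLoc).toFunctor.obj M :=
  smulHom ((Scheme.Modules.pullback f).obj M) c

theorem sc_one (f : W ⟶ X₁) (M : X₁.Modules) : sc f M 1 = 𝟙 _ := by
  unfold sc
  exact smulHom_one _

theorem sc_comp (f : W ⟶ X₁) (M : X₁.Modules) (c d : Γ(W, ⊤)) : sc f M c ≫ sc f M d = sc f M (c * d) := by
  unfold sc
  exact smulHom_comp _ c d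

theorem sc_injective (f : W ⟶ X₁) {M : X₁.Modules} (hM : PicF.IsInvertible M) {c d : Γ(W, ⊤)}
    (h : sc f M c = sc f M d) : c = d := by
  unfold sc at h
  exact smulHom_injective (PicLoc.isInvertible_pullback f hM) h

theorem exists_sc (f : W ⟶ X₁) {M : X₁.Modules} (hM : PicF.IsInvertible M)
    (φ : (Desc.modPF.map f.op.toLoc).toFunctor.obj M ⟶ (Desc.modPF.map f.op.toLoc).toFunctor.obj M) :
    ∃ c, φ = sc f M c := by
  unfold sc
  obtain ⟨c, hc, -⟩ := existsUnique_smulHom (PicLoc.isInvertible_pullback f hM) φ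
  exact ⟨c, hc⟩

theorem isIso_sc (f : W ⟶ X₁) (M : X₁.Modules) {c d : Γ(W, ⊤)} (h : c * d = 1) : IsIso (sc f M c) :=
  ⟨sc f M d, by rw [sc_comp, h, sc_one], by rw [sc_comp, _root_.mul_comm, h, sc_one]⟩

theorem exists_unit_sc (f : W ⟶ X₁) {M : X₁.Modules} (hM : PicF.IsInvertible M)
    (φ : (Desc.modPF.map f.op.toLoc).toFunctor.obj M ⟶ (Desc.modPF.map f.op.toLoc).toFunctor.obj M) [IsIso φ] :
    ∃ c d, c * d = 1 ∧ φ = sc f M c := by
  obtain ⟨c, hc⟩ := exists_sc f hM φ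
  obtain ⟨d, hd⟩ := exists_sc f hM (inv φ)
  exact ⟨c, d, sc_injective f hM (by rw [← sc_comp, sc_one, ← hc, ← hd, IsIso.hom_inv_id]), hc⟩

end scalar

theorem conj_smulHom {W : Scheme.{u}} {A B : W.Modules} (φ : A ⟶ B) (ψ : B ⟶ A) (h : φ ≫ ψ = 𝟙 A) (c : Γ(W, ⊤)) :
    φ ≫ smulHom B c ≫ ψ = smulHom A c := by
  rw [← Category.assoc, ← smulHom_naturality, Category.assoc, h, Category.comp_id]

/-- Pullback of a scalar is a scalar. -/
theorem pullHom_sc {X₁ W W' : Scheme.{u}} {M₁ : X₁.Modules} {f₁ : W ⟶ X₁} (hM : PicF.IsInvertible M₁) (c : Γ(W, ⊤)) (g : W' ⟶ W) (g₁ : W' ⟶ X₁)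
    (h₁ : g ≫ f₁ = g₁) :
    pullHom (F := Desc.modPF.{u}) (sc f₁ M₁ c) g g₁ g₁ h₁ h₁ = sc g₁ M₁ (g.appTop c) := by
  unfold sc pullHom
  have e : (Desc.modPF.map g.op.toLoc).toFunctor.map (smulHom ((Scheme.Modules.pullback f₁).obj M₁) c) =
      smulHom ((Scheme.Modules.pullback g).obj ((Scheme.Modules.pullback f₁).obj M₁)) (g.appTop c) :=
    pullback_map_smulHom (PicLoc.isInvertible_pullback f₁ hM) g c
  rw [e]
  exact conj_smulHom _ _ (Cat.Hom.hom_inv_id_toNatTrans_app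
    (Desc.modPF.mapComp' f₁.op.toLoc g.op.toLoc g₁.op.toLoc (by subst h₁; rfl)) M₁) _

/-- Descent of an invertible module with isomorphic pullbacks to `X ×_Y X`, if units on a universal triple are detected
on the partial diagonals. -/
theorem exists_descent_of_units {X Y P T : Scheme.{u}} {f : X ⟶ Y} [Flat f] [Surjective f] [QuasiCompact f]
    {p₁ p₂ : P ⟶ X} (hsq : IsPullback p₁ p₂ f f) (q : T ⟶ Y) (ta tb tc : T ⟶ X)
    (ha : ta ≫ f = q) (hb : tb ≫ f = q) (hc : tc ≫ f = q)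
    (huniv : ∀ {Z : Scheme.{u}} (q' : Z ⟶ Y) (za zb zc : Z ⟶ X), za ≫ f = q' → zb ≫ f = q' → zc ≫ f = q' →
      ∃ Φ : Z ⟶ T, Φ ≫ ta = za ∧ Φ ≫ tb = zb ∧ Φ ≫ tc = zc)
    (hunit : ∀ v : Γ(T, ⊤), IsUnit v →
      (∀ {Z : Scheme.{u}} (s : Z ⟶ T), (s ≫ ta = s ≫ tb ∨ s ≫ tb = s ≫ tc) → s.appTop v = 1) → v = 1)
    {L : X.Modules} (hL : PicF.IsInvertible L)
    (θ₀ : (Scheme.Modules.pullback p₁).obj L ≅ (Scheme.Modules.pullback p₂).obj L) :
    ∃ M : Y.Modules, PicF.IsInvertible M ∧ Nonempty ((Scheme.Modules.pullback f).obj M ≅ L) := by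
  let F := Desc.modPF.{u}
  let sq : PUnit.{u + 1} → PUnit.{u + 1} → ChosenPullback f f := fun _ _ =>
    { pullback := P, p₁ := p₁, p₂ := p₂, condition := hsq.w, isLimit := hsq.isLimit }
  let c : ChosenPullback p₂ p₁ :=
    { pullback := pullback p₂ p₁
      p₁ := pullback.fst _ _
      p₂ := pullback.snd _ _
      condition := pullback.condition
      isLimit := pullbackIsPullback _ _ }
  let sq₃ : ∀ i j l, ChosenPullback₃ (sq i j) (sq j l) (sq i l) := fun i j l =>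
    { chosenPullback := c
      l := (ChosenPullback.LiftStruct.nonempty (h := sq i l) (g₁ := c.p₁ ≫ p₁)
        (g₂ := c.p₂ ≫ p₂) (b := c.p₁ ≫ (sq i j).p) (by
          exact (Category.assoc _ _ _).trans ((congrArg (c.p₁ ≫ ·) hsq.w).trans
            (((Category.assoc _ _ _).symm.trans ((congrArg (· ≫ f) c.condition).trans (Category.assoc _ _ _))).trans
              ((congrArg (c.p₂ ≫ ·) hsq.w).trans (Category.assoc _ _ _).symm))))
        (Category.assoc _ _ _)).some }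
  -- normalisation
  let δ : X ⟶ P := hsq.lift (𝟙 _) (𝟙 _) rfl
  have hδ₁ : δ ≫ p₁ = 𝟙 _ := hsq.lift_fst _ _ _
  have hδ₂ : δ ≫ p₂ = 𝟙 _ := hsq.lift_snd _ _ _
  let θ₁ : (F.map p₁.op.toLoc).toFunctor.obj L ⟶ (F.map p₂.op.toLoc).toFunctor.obj L := θ₀.hom
  haveI h1 : IsIso θ₁ := inferInstanceAs (IsIso θ₀.hom)
  haveI : IsIso (pullHom θ₁ δ (𝟙 _) (𝟙 _) hδ₁ hδ₂) := isIso_pullHom _ _ _ _ _ _
  obtain ⟨v, w, hvw, hv⟩ := exists_unit_sc (𝟙 X) hL (pullHom θ₁ δ (𝟙 _) (𝟙 _) hδ₁ hδ₂)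
  haveI h2 : IsIso (sc p₂ L (p₂.appTop w)) :=
    isIso_sc _ _ (d := p₂.appTop v) (by rw [← map_mul, _root_.mul_comm, hvw, map_one])
  let θ : ∀ i j, (F.map (sq i j).p₁.op.toLoc).toFunctor.obj L ⟶ (F.map (sq i j).p₂.op.toLoc).toFunctor.obj L :=
    fun _ _ => θ₁ ≫ sc p₂ L (p₂.appTop w)
  haveI : IsIso (θ default default) := inferInstanceAs (IsIso (θ₁ ≫ sc p₂ L (p₂.appTop w)))
  have hn : Norm sq θ := by
    unfold Norm
    rw [cmp2_eq sq θ f _ _ _ _ δ hδ₁ hδ₂]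
    show pullHom (θ₁ ≫ sc p₂ L (p₂.appTop w)) δ (𝟙 X) (𝟙 X) hδ₁ hδ₂ = _
    rw [← pullHom_comp θ₁ _ δ (𝟙 X) (𝟙 X) (𝟙 X) hδ₁ hδ₂ hδ₂, pullHom_sc hL _ δ (𝟙 X) hδ₂, hv, sc_comp]
    have hW : δ.appTop (p₂.appTop w) = w := by
      show (δ ≫ p₂).appTop w = w
      rw [hδ₂]
      rfl
    rw [hW, hvw, sc_one]
  obtain ⟨e, he, hres, hfin⟩ := exists_obstruction sq θ hn q ta tb tc ha hb hc
  obtain ⟨ve, we, hvwe, hve⟩ := exists_unit_sc ta hL e
  have he1 : e = 𝟙 _ := by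
    rw [hve, hunit ve (IsUnit.of_mul_eq_one we hvwe) fun {Z} s hor => sc_injective (s ≫ ta) hL (by
      rw [← pullHom_sc hL ve s (s ≫ ta) rfl, ← hve, sc_one]
      exact hres s hor), sc_one]
  have hco := hfin he1
  let D := datum sq θ sq₃ hn fun {Z} q' za zb zc h1 h2 h3 => by
    obtain ⟨Φ, ea, eb, ec⟩ := huniv q' za zb zc h1 h2 h3
    exact cmp2_comp_of_universal sq θ Φ q ta tb tc q' za zb zc ha hb hc h1 h2 h3
      (by rw [← hc, ← Category.assoc, ec, h3]) ea eb ec hco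
  haveI : ∀ i, Coh.IsQCoh (QcohDesc12.ob D.descentData i) := fun _ => Twist.isQCoh_of_isInvertible hL
  have hf : Presieve.ofArrows (fun _ : PUnit.{u + 1} => X) (fun _ => f) ∈ Scheme.fpqcPrecoverage Y := by
    rw [Presieve.ofArrows_pUnit]
    exact Scheme.Hom.singleton_mem_fpqcPrecoverage f
  obtain ⟨M, hM, ⟨i⟩⟩ := QcohDesc12.exists_iso_toDescentData (D := D.descentData) hf
  let e : (Scheme.Modules.pullback f).obj M ≅ L :=
    { hom := i.hom.hom PUnit.unit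
      inv := i.inv.hom PUnit.unit
      hom_inv_id := congrArg (fun φ => φ.hom PUnit.unit) i.hom_inv_id
      inv_hom_id := congrArg (fun φ => φ.hom PUnit.unit) i.inv_hom_id }
  exact ⟨M, ParaFDesc27.isInvertible_of_pullback f hM (Twist.isInvertible_of_iso e.symm hL), ⟨e⟩⟩

end Groth.Agent.OrbPic14
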